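import Groth.Agent.GonfLib.Zorn
import Mathlib.RingTheory.LocalRing.ResidueField.Basic
import Mathlib.RingTheory.AdicCompletion.LocalRing
import Mathlib.RingTheory.DiscreteValuationRing.TFAE
import Mathlib.RingTheory.AdicCompletion.AsTensorProduct
import Mathlib.RingTheory.Flat.TorsionFree

/-! Consequences: flat local extensions with prescribed residue field, complete DVRs. -/

universe u

open IsLocalRing

namespace GonfLib

/-- Gonflement, packaged with residue field identification. -/
theorem exists_local_extension (A : Type u) [CommRing A] [IsLocalRing A] (K : Type u) [Field K]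
    [Algebra A K] (hk : RingHom.ker (algebraMap A K) = maximalIdeal A) :
    ∃ (B : Type u) (_ : CommRing B) (_ : Algebra A B) (_ : IsLocalRing B)
      (_ : IsLocalHom (algebraMap A B)) (ψ : B →ₐ[A] K),
      Module.Flat A B ∧ (maximalIdeal A).map (algebraMap A B) = maximalIdeal B ∧
      Function.Surjective ψ ∧ RingHom.ker ψ = maximalIdeal B ∧
      (IsNoetherianRing A → IsNoetherianRing B) := by
  obtain ⟨B, _, _, ψ, h, hs, hN⟩ := exists_gonf (A := A) (K := K) hk
  exact ⟨B, inferInstance, inferInstance, h.isLocalRing, h.isLocalHom hk, ψ, h.flat,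
    h.map_eq_maximalIdeal hk, hs, h.ker_eq_maximalIdeal, hN⟩

theorem exists_local_extension_residueField {A : Type u} [CommRing A] [IsLocalRing A] (K : Type u)
    [Field K] [Algebra (ResidueField A) K] :
    ∃ (B : Type u) (_ : CommRing B) (_ : Algebra A B) (_ : IsLocalRing B)
      (_ : IsLocalHom (algebraMap A B)),
      Module.Flat A B ∧ (maximalIdeal A).map (algebraMap A B) = maximalIdeal B ∧
      (IsNoetherianRing A → IsNoetherianRing B) ∧
      ∃ e : ResidueField B ≃+* K, ∀ a : A,
        e (residue B (algebraMap A B a)) = algebraMap (ResidueField A) K (residue A a) := by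
  let _ : Algebra A K := ((algebraMap (ResidueField A) K).comp (residue A)).toAlgebra
  have hk : RingHom.ker (algebraMap A K) = maximalIdeal A := by
    show RingHom.ker ((algebraMap (ResidueField A) K).comp (residue A)) = _
    rw [RingHom.ker_comp_of_injective _ (algebraMap (ResidueField A) K).injective]
    exact Ideal.mk_ker
  obtain ⟨B, _, _, _, _, ψ, hflat, hmap, hs, hker, hN⟩ := exists_local_extension A K hk
  refine ⟨B, inferInstance, inferInstance, inferInstance, inferInstance, hflat, hmap, hN,
    (Ideal.quotEquivOfEq hker.symm).trans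
      (RingHom.quotientKerEquivOfSurjective (f := ψ.toRingHom) hs), fun a => ?_⟩
  exact ψ.commutes a

/-- A complete discrete valuation ring with prescribed residue field, flat over a discrete
valuation ring with uniformizer `π`. -/
theorem exists_complete_dvr {A : Type u} [CommRing A] [IsLocalRing A] [IsNoetherianRing A]
    (π : A) (hπ : maximalIdeal A = Ideal.span {π}) (hπ0 : π ∈ nonZeroDivisors A) (K : Type u)
    [Field K] [Algebra A K] (hk : RingHom.ker (algebraMap A K) = maximalIdeal A) :
    ∃ (Λ : Type u) (_ : CommRing Λ) (_ : IsDomain Λ) (_ : IsDiscreteValuationRing Λ)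
      (_ : Algebra A Λ), IsAdicComplete (maximalIdeal Λ) Λ ∧
      maximalIdeal Λ = Ideal.span {algebraMap A Λ π} ∧ Nonempty (ResidueField Λ ≃+* K) := by
  obtain ⟨B, _, _, _, _, ψ, hflat, hmap, hs, hker, hN⟩ := exists_local_extension A K hk
  have := hN inferInstance
  let Bh := AdicCompletion (maximalIdeal B) B
  let πh : Bh := algebraMap A Bh π
  have hmB : maximalIdeal B = Ideal.span {algebraMap A B π} := by
    rw [← hmap, hπ, Ideal.map_span, Set.image_singleton]
  have hmax : maximalIdeal Bh = Ideal.span {πh} := by
    rw [AdicCompletion.maximalIdeal_eq_map, congrArg (Ideal.map (algebraMap B Bh)) hmB,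
      Ideal.map_span, Set.image_singleton, ← IsScalarTower.algebraMap_apply]
  have : IsAdicComplete (maximalIdeal Bh) Bh := by
    rw [AdicCompletion.maximalIdeal_eq_map]
    exact (IsAdicComplete.map_algebraMap_iff _ _).2
      (AdicCompletion.isAdicComplete (M := B) (IsNoetherian.noetherian _))
  have : IsNoetherianRing Bh := by
    let _ : Field (B ⧸ maximalIdeal B) := Ideal.Quotient.field _
    have hk1 : RingHom.ker (AdicCompletion.evalOneₐ (maximalIdeal B)).toRingHom =
        maximalIdeal Bh := by
      rw [AdicCompletion.ker_evalOneₐ_eq_map _ (IsNoetherian.noetherian _),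
        AdicCompletion.maximalIdeal_eq_map]
    have : IsNoetherianRing (Bh ⧸ maximalIdeal Bh) := isNoetherianRing_of_ringEquiv (B ⧸ maximalIdeal B)
      ((Ideal.quotEquivOfEq hk1.symm).trans (RingHom.quotientKerEquivOfSurjective
        (AdicCompletion.evalOneₐ_surjective (maximalIdeal B)))).symm
    exact CompleteLib.isNoetherianRing_of_isAdicComplete (maximalIdeal Bh)
      (hmax ▸ ⟨{πh}, by simp⟩)
  have hnzd : ∀ z : Bh, πh * z = 0 → z = 0 := by
    intro z hz
    have hfl : Module.Flat A Bh := by
      have : Module.Flat B Bh := AdicCompletion.flat_of_isNoetherian _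
      exact Module.Flat.trans A B Bh
    have h1 := Module.Flat.isSMulRegular_of_nonZeroDivisors (M := Bh) hπ0
    exact h1 (show π • z = π • 0 by rw [smul_zero, Algebra.smul_def]; exact hz)
  have hdec : ∀ z : Bh, z ≠ 0 → ∃ (n : ℕ) (u : Bh), IsUnit u ∧ z = πh ^ n * u := by
    intro z hz
    by_contra hno
    refine hz (IsHausdorff.haus (I := maximalIdeal Bh) inferInstance z fun n => ?_)
    rw [SModEq.zero, smul_eq_mul, Ideal.mul_top, hmax, Ideal.span_singleton_pow,
      Ideal.mem_span_singleton]
    induction n with
    | zero => simp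
    | succ n ih =>
      obtain ⟨w, hw⟩ := ih
      have hw2 : w ∈ maximalIdeal Bh := fun hu => hno ⟨n, w, hu, hw⟩
      rw [hmax, Ideal.mem_span_singleton] at hw2
      obtain ⟨w', rfl⟩ := hw2
      exact ⟨w', by rw [hw, pow_succ, mul_assoc]⟩
  have hpow : ∀ (n : ℕ) (z : Bh), πh ^ n * z = 0 → z = 0 := by
    intro n
    induction n with
    | zero => simp
    | succ n ih => intro z hz; rw [pow_succ', mul_assoc] at hz; exact ih z (hnzd _ hz)
  have : IsDomain Bh := by
    have : Nontrivial Bh := inferInstance
    have : NoZeroDivisors Bh := ⟨fun {a b} hab => or_iff_not_imp_left.2 fun ha => by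
      obtain ⟨n, u, hu, rfl⟩ := hdec a ha
      rw [mul_assoc] at hab
      exact hu.mul_right_eq_zero.1 (hpow n _ hab)⟩
    exact NoZeroDivisors.to_isDomain Bh
  have hnf : ¬ IsField Bh := fun hF => by
    have := (IsLocalRing.isField_iff_maximalIdeal_eq.1 hF)
    rw [hmax, Ideal.span_singleton_eq_bot] at this
    exact one_ne_zero (hnzd 1 (by rw [this, zero_mul]))
  have : IsDiscreteValuationRing Bh :=
    ((IsDiscreteValuationRing.TFAE Bh hnf).out 0 4).2 (by rw [hmax]; exact ⟨⟨πh, rfl⟩⟩)
  refine ⟨Bh, inferInstance, inferInstance, inferInstance, inferInstance, inferInstance, hmax, ⟨?_⟩⟩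
  exact (Ideal.quotEquivOfEq (by
      rw [AdicCompletion.ker_evalOneₐ_eq_map _ (IsNoetherian.noetherian _),
        AdicCompletion.maximalIdeal_eq_map] :
      maximalIdeal Bh = RingHom.ker (AdicCompletion.evalOneₐ (maximalIdeal B)).toRingHom)).trans
    ((RingHom.quotientKerEquivOfSurjective
      (AdicCompletion.evalOneₐ_surjective (maximalIdeal B))).trans
      ((Ideal.quotEquivOfEq hker.symm).trans
        (RingHom.quotientKerEquivOfSurjective (f := ψ.toRingHom) hs)))

end GonfLib
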