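import Groth.Agent.GonfLib.Union
import Mathlib.RingTheory.MvPolynomial.Basic
import Mathlib.RingTheory.Polynomial.Basic

/-! The ambient local ring for the construction of gonflements, and stage rings inside it. -/

universe u

open IsLocalRing MvPolynomial

namespace GonfLib

variable {A : Type u} [CommRing A] [IsLocalRing A] {K : Type u} [Field K] [Algebra A K]

variable (A) in
/-- Evaluation of polynomials in variables indexed by a subset of `K`. -/
noncomputable def evS (S : Set K) : MvPolynomial S A →ₐ[A] K :=
  MvPolynomial.aeval (fun s : S => (s : K))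

variable (A) in
/-- The local ring of polynomials in variables indexed by a subset of `K`. -/
abbrev LS (S : Set K) : Type u := Localization.AtPrime (prime (evS A S))

variable (A K) in
/-- The evaluation on all variables. -/
noncomputable def evK : MvPolynomial K A →ₐ[A] K := MvPolynomial.aeval id

variable (A K) in
/-- The ambient local ring. -/
abbrev LK : Type u := Localization.AtPrime (prime (evK A K))

theorem localLift_isUnit {C : Type u} [CommRing C] [Algebra A C] (φ : C →ₐ[A] K)
    {b : Localization.AtPrime (prime φ)} (hb : localLift φ b ≠ 0) : IsUnit b := by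
  obtain ⟨⟨c, s⟩, rfl⟩ := IsLocalization.mk'_surjective (prime φ).primeCompl b
  refine (IsLocalization.AtPrime.isUnit_mk'_iff _ (prime φ) c s).2 fun hc => hb ?_
  have h1 : localLift φ (IsLocalization.mk' _ c s) * φ s = φ c := by
    rw [← localLift_algebraMap φ (s : C), ← map_mul, IsLocalization.mk'_spec, localLift_algebraMap]
  rw [show φ c = 0 from hc] at h1
  exact (mul_eq_zero.1 h1).resolve_right fun h0 => s.2 h0

/-- Universal property of the localizations used. -/
noncomputable def localExtend {C D : Type u} [CommRing C] [Algebra A C] [CommRing D] [Algebra A D]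
    (φ : C →ₐ[A] K) (f : C →ₐ[A] D) (χ : D →ₐ[A] K) (hχ : χ.comp f = φ)
    (hu : ∀ d, χ d ≠ 0 → IsUnit d) : Localization.AtPrime (prime φ) →ₐ[A] D :=
  IsLocalization.liftAlgHom (M := (prime φ).primeCompl) (f := f) fun y =>
    hu _ fun h0 => y.2 (show φ.toRingHom y = 0 from (AlgHom.congr_fun hχ y).symm.trans h0)

theorem localExtend_algebraMap {C D : Type u} [CommRing C] [Algebra A C] [CommRing D] [Algebra A D]
    (φ : C →ₐ[A] K) (f : C →ₐ[A] D) (χ : D →ₐ[A] K) (hχ : χ.comp f = φ)
    (hu : ∀ d, χ d ≠ 0 → IsUnit d) (c : C) :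
    localExtend φ f χ hχ hu (algebraMap C (Localization.AtPrime (prime φ)) c) = f c :=
  IsLocalization.lift_eq _ _

theorem localExt {C D : Type u} [CommRing C] [Algebra A C] [CommRing D] [Algebra A D]
    {φ : C →ₐ[A] K} {f g : Localization.AtPrime (prime φ) →ₐ[A] D}
    (h : ∀ c, f (algebraMap C _ c) = g (algebraMap C _ c)) : f = g :=
  IsLocalization.algHom_ext (prime φ).primeCompl (AlgHom.ext h)

variable (A) in
/-- The map of a partial ring of polynomials into the ambient one. -/
noncomputable def emb (S : Set K) : LS A S →ₐ[A] LK A K :=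
  localExtend (evS A S)
    ((IsScalarTower.toAlgHom A (MvPolynomial K A) (LK A K)).comp
      (MvPolynomial.rename (Subtype.val : S → K)))
    (localLift (evK A K)) (MvPolynomial.algHom_ext fun s => by
      simp only [AlgHom.comp_apply, rename_X, IsScalarTower.coe_toAlgHom', localLift_algebraMap]
      simp [evK, evS]) fun _ => localLift_isUnit _

variable (A) in
theorem emb_X (S : Set K) (s : S) :
    emb A S (algebraMap (MvPolynomial S A) (LS A S) (X s)) =
      algebraMap (MvPolynomial K A) (LK A K) (X (s : K)) := by
  rw [emb, localExtend_algebraMap]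
  simp

variable (A) in
theorem localLift_emb (S : Set K) : (localLift (evK A K)).comp (emb A S) = localLift (evS A S) :=
  localExt fun c => by
    rw [AlgHom.comp_apply, emb, localExtend_algebraMap, localLift_algebraMap]
    have : (evK A K).comp (MvPolynomial.rename (Subtype.val : S → K)) = evS A S :=
      MvPolynomial.algHom_ext fun s => by simp [evK, evS]
    simpa [localLift_algebraMap] using AlgHom.congr_fun this c

variable (A) in
theorem range_emb_mono {S S' : Set K} (hS : S ⊆ S') : (emb A S).range ≤ (emb A S').range := by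
  let f : LS A S →ₐ[A] LS A S' := localExtend (evS A S)
    ((IsScalarTower.toAlgHom A (MvPolynomial S' A) (LS A S')).comp
      (MvPolynomial.rename (Set.inclusion hS)))
    (localLift (evS A S')) (MvPolynomial.algHom_ext fun s => by
      simp only [AlgHom.comp_apply, rename_X, IsScalarTower.coe_toAlgHom', localLift_algebraMap]
      simp [evS]) fun _ => localLift_isUnit _
  have hf : (emb A S').comp f = emb A S := localExt fun c => by
    rw [AlgHom.comp_apply, show f (algebraMap _ _ c) = _ from
      localExtend_algebraMap _ _ _ _ _ c, AlgHom.comp_apply, IsScalarTower.coe_toAlgHom', emb,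
      localExtend_algebraMap, emb, localExtend_algebraMap, AlgHom.comp_apply, AlgHom.comp_apply,
      rename_rename]
    rfl
  rintro _ ⟨x, rfl⟩
  exact ⟨f x, AlgHom.congr_fun hf x⟩

/-- The range of a map out of a local ring contains the inverses of its elements of nonzero
residue. -/
theorem exists_inv_mem_range {D E : Type u} [CommRing D] [Algebra A D] [CommRing E] [Algebra A E]
    (f : D →ₐ[A] E) (χD : D →ₐ[A] K) (χ : E →ₐ[A] K) (hf : χ.comp f = χD)
    (hu : ∀ d, χD d ≠ 0 → IsUnit d) : ∀ z ∈ f.range, χ z ≠ 0 → ∃ w ∈ f.range, z * w = 1 := by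
  rintro _ ⟨d, rfl⟩ hd
  have h := hu d (by rw [← hf]; exact hd)
  exact ⟨f ↑h.unit⁻¹, ⟨_, rfl⟩, by
    show f d * f _ = 1
    rw [← map_mul, h.mul_val_inv, map_one]⟩

/-- A subalgebra containing the numerators and the inverses of units contains the localization. -/
theorem comp_mem_of_forall {C E : Type u} [CommRing C] [Algebra A C] [CommRing E] [Algebra A E]
    (φ : C →ₐ[A] K) (f : Localization.AtPrime (prime φ) →ₐ[A] E) (χ : E →ₐ[A] K)
    (hf : χ.comp f = localLift φ) (R : Subalgebra A E)
    (hinv : ∀ z ∈ R, χ z ≠ 0 → ∃ w ∈ R, z * w = 1)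
    (hC : ∀ c, f (algebraMap C _ c) ∈ R) (z : Localization.AtPrime (prime φ)) : f z ∈ R := by
  obtain ⟨⟨c, s⟩, rfl⟩ := IsLocalization.mk'_surjective (prime φ).primeCompl z
  obtain ⟨w, hw, hsw⟩ := hinv _ (hC s) (by
    rw [← AlgHom.comp_apply, hf, localLift_algebraMap]
    exact s.2)
  show f (IsLocalization.mk' _ c s) ∈ R
  rw [show f (IsLocalization.mk' _ c s) = f (algebraMap C _ c) * w by
    rw [← IsLocalization.mk'_spec (Localization.AtPrime (prime φ)) c s, map_mul, mul_assoc, hsw,
      mul_one]]
  exact R.mul_mem (hC c) hw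

/-- Membership in a subalgebra for the image of a partial ring of polynomials. -/
theorem comp_emb_mem {E : Type u} [CommRing E] [Algebra A E] (g : LK A K →ₐ[A] E) (χ : E →ₐ[A] K)
    (hg : χ.comp g = localLift (evK A K)) (R : Subalgebra A E)
    (hinv : ∀ z ∈ R, χ z ≠ 0 → ∃ w ∈ R, z * w = 1) (S : Set K)
    (hX : ∀ s ∈ S, g (algebraMap (MvPolynomial K A) (LK A K) (X s)) ∈ R) (w : LS A S) :
    g (emb A S w) ∈ R := by
  refine comp_mem_of_forall (evS A S) (g.comp (emb A S)) χ ?_ R hinv (fun p => ?_) w
  · rw [← AlgHom.comp_assoc, hg, localLift_emb]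
  rw [AlgHom.comp_apply]
  induction p using MvPolynomial.induction_on with
  | C r =>
    rw [← MvPolynomial.algebraMap_eq, ← IsScalarTower.algebraMap_apply, AlgHom.commutes,
      AlgHom.commutes]
    exact R.algebraMap_mem r
  | add p q hp hq => rw [map_add, map_add, map_add]; exact R.add_mem hp hq
  | mul_X p s hp =>
    rw [map_mul, map_mul, map_mul, emb_X]
    exact R.mul_mem hp (hX s s.2)

/-- An ambient local ring over a gonflement, with a lift of every element of the residue field. -/
theorem exists_ambient {D : Type u} [CommRing D] [Algebra A D] (χD : D →ₐ[A] K)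
    (hu : ∀ d, χD d ≠ 0 → IsUnit d) [IsLocalRing D] :
    ∃ (E : Type u) (_ : CommRing E) (_ : Algebra A E) (χ : E →ₐ[A] K) (j : D →ₐ[A] E) (y : K → E),
      (∀ e, χ e ≠ 0 → IsUnit e) ∧ χ.comp j = χD ∧ Function.Injective j ∧ ∀ k, χ (y k) = k := by
  obtain ⟨ev, hevC, hevX⟩ : ∃ ev : MvPolynomial K D →ₐ[A] K,
      (∀ z, ev (C z) = χD z) ∧ ∀ k, ev (X k) = k :=
    ⟨{ eval₂Hom χD.toRingHom id with
      commutes' := fun r => by
        show eval₂Hom χD.toRingHom id (algebraMap A (MvPolynomial K D) r) = _
        rw [MvPolynomial.algebraMap_apply, eval₂Hom_C]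
        exact χD.commutes r },
      fun z => eval₂Hom_C _ _ z, fun k => eval₂Hom_X' _ _ k⟩
  have hj : (localLift ev).comp (IsScalarTower.toAlgHom A D (Localization.AtPrime (prime ev))) =
      χD := AlgHom.ext fun z => by
    rw [AlgHom.comp_apply, IsScalarTower.coe_toAlgHom',
      IsScalarTower.algebraMap_apply D (MvPolynomial K D) (Localization.AtPrime (prime ev)),
      localLift_algebraMap]
    exact hevC z
  have hflatE : Module.Flat D (Localization.AtPrime (prime ev)) :=
    have : Module.Flat (MvPolynomial K D) (Localization.AtPrime (prime ev)) :=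
      IsLocalization.flat _ (prime ev).primeCompl
    Module.Flat.trans D (MvPolynomial K D) _
  have : IsLocalHom (algebraMap D (Localization.AtPrime (prime ev))) := ⟨fun z hz => hu z (by
    rw [← hj]; exact (hz.map (localLift ev)).ne_zero)⟩
  have hff : Module.FaithfullyFlat D (Localization.AtPrime (prime ev)) :=
    Module.FaithfullyFlat.of_flat_of_isLocalHom
  exact ⟨_, inferInstance, inferInstance, localLift ev, _,
    fun k => algebraMap (MvPolynomial K D) _ (X k), fun _ => localLift_isUnit ev, hj,
    FaithfulSMul.algebraMap_injective D _,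
    fun k => (localLift_algebraMap ev _).trans (hevX k)⟩

end GonfLib
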