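import Mathlib.RingTheory.Flat.Stability
import Mathlib.RingTheory.Flat.Localization
import Mathlib.RingTheory.LocalRing.MaximalIdeal.Basic
import Mathlib.RingTheory.LocalRing.ResidueField.Basic
import Mathlib.RingTheory.Polynomial.Basic
import Mathlib.RingTheory.AdjoinRoot
import Mathlib.RingTheory.Localization.AtPrime.Basic
import Mathlib.RingTheory.IntegralClosure.IsIntegralClosure.Basic
import Mathlib.FieldTheory.Minpoly.Field

/-! Gonflements of local rings (flat local extensions with prescribed residue field): one step. -/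

universe u

open IsLocalRing Polynomial

namespace GonfLib

variable {A : Type u} [CommRing A] [IsLocalRing A] {K : Type u} [Field K] [Algebra A K]

/-- A flat local `A`-algebra `B` with `m_A B = m_B`, with residue field mapped into `K`. -/
structure IsGonf (B : Type u) [CommRing B] [Algebra A B] (ψ : B →ₐ[A] K) : Prop where
  flat : Module.Flat A B
  isUnit : ∀ b, ψ b ≠ 0 → IsUnit b
  ker_le : RingHom.ker ψ ≤ (maximalIdeal A).map (algebraMap A B)

variable (hk : RingHom.ker (algebraMap A K) = maximalIdeal A)

section basic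
variable {B : Type u} [CommRing B] [Algebra A B] {ψ : B →ₐ[A] K}

include hk in
theorem map_le_ker (ψ : B →ₐ[A] K) : (maximalIdeal A).map (algebraMap A B) ≤ RingHom.ker ψ := by
  rw [Ideal.map_le_iff_le_comap]
  intro a ha
  rw [← hk, RingHom.mem_ker] at ha
  rw [Ideal.mem_comap, RingHom.mem_ker, AlgHom.commutes, ha]

theorem IsGonf.isLocalRing (h : IsGonf B ψ) : IsLocalRing B := by
  have : Nontrivial B := ⟨⟨1, 0, fun h0 => by
    have := congrArg ψ h0
    rw [map_one, map_zero] at this
    exact one_ne_zero this⟩⟩
  refine IsLocalRing.of_nonunits_add fun a b ha hb => ?_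
  have ha' : ψ a = 0 := not_imp_comm.1 (h.isUnit a) ha
  have hb' : ψ b = 0 := not_imp_comm.1 (h.isUnit b) hb
  intro hu
  have := (hu.map ψ).ne_zero
  rw [map_add, ha', hb', add_zero] at this
  exact this rfl

theorem IsGonf.ker_eq_maximalIdeal (h : IsGonf B ψ) :
    haveI := h.isLocalRing
    RingHom.ker ψ = maximalIdeal B := by
  have := h.isLocalRing
  ext b
  rw [RingHom.mem_ker, IsLocalRing.mem_maximalIdeal, mem_nonunits_iff]
  exact ⟨fun hb hu => (hu.map ψ).ne_zero hb, not_imp_comm.1 (h.isUnit b)⟩

include hk in
theorem IsGonf.map_eq_maximalIdeal (h : IsGonf B ψ) :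
    haveI := h.isLocalRing
    (maximalIdeal A).map (algebraMap A B) = maximalIdeal B := by
  have := h.isLocalRing
  rw [← h.ker_eq_maximalIdeal]
  exact le_antisymm (map_le_ker hk ψ) h.ker_le

include hk in
theorem IsGonf.isLocalHom (h : IsGonf B ψ) : IsLocalHom (algebraMap A B) := by
  refine ⟨fun a ha => ?_⟩
  by_contra hu
  have ha0 : algebraMap A K a = 0 := by
    rw [← RingHom.mem_ker, hk]
    exact hu
  exact (ha.map ψ).ne_zero (by rw [AlgHom.commutes, ha0])

theorem IsGonf.of_surjective_equiv {B' : Type u} [CommRing B'] [Algebra A B'] (e : B ≃ₐ[A] B')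
    (h : IsGonf B ψ) : IsGonf B' (ψ.comp e.symm.toAlgHom) where
  flat := by
    have := h.flat
    exact Module.Flat.of_linearEquiv e.symm.toLinearEquiv
  isUnit b hb := by
    simpa using (h.isUnit _ hb).map e
  ker_le b hb := by
    have := Ideal.mem_map_of_mem e.toAlgHom.toRingHom (h.ker_le (show e.symm b ∈ RingHom.ker ψ from hb))
    rw [Ideal.map_map, show e.toAlgHom.toRingHom.comp (algebraMap A B) = algebraMap A B' from
      RingHom.ext e.commutes] at this
    simpa using this

end basic

section localize
variable {C : Type u} [CommRing C] [Algebra A C] (φ : C →ₐ[A] K)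

/-- The prime at which to localize. -/
abbrev prime : Ideal C := RingHom.ker φ.toRingHom

instance : (prime φ).IsPrime := RingHom.ker_isPrime _

/-- The extension of `φ` to the localization. -/
noncomputable def localLift : Localization.AtPrime (prime φ) →ₐ[A] K :=
  IsLocalization.liftAlgHom (M := (prime φ).primeCompl) (f := φ) fun y =>
    IsUnit.mk0 _ fun h0 => y.2 h0

theorem localLift_algebraMap (c : C) :
    localLift φ (algebraMap C (Localization.AtPrime (prime φ)) c) = φ c :=
  IsLocalization.lift_eq _ _

theorem isGonf_localization (hflat : Module.Flat A C)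
    (hker : prime φ ≤ (maximalIdeal A).map (algebraMap A C)) :
    IsGonf (Localization.AtPrime (prime φ)) (localLift φ) where
  flat :=
    have : Module.Flat C (Localization.AtPrime (prime φ)) :=
      IsLocalization.flat _ (prime φ).primeCompl
    Module.Flat.trans A C _
  isUnit b hb := by
    obtain ⟨⟨c, s⟩, rfl⟩ := IsLocalization.mk'_surjective (prime φ).primeCompl b
    refine (IsLocalization.AtPrime.isUnit_mk'_iff _ (prime φ) c s).2 fun hc => hb ?_
    have h1 : localLift φ (IsLocalization.mk' _ c s) * φ s = φ c := by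
      rw [← localLift_algebraMap φ (s : C), ← map_mul, IsLocalization.mk'_spec, localLift_algebraMap]
    rw [show φ c = 0 from hc] at h1
    exact (mul_eq_zero.1 h1).resolve_right fun h0 => s.2 h0
  ker_le b hb := by
    obtain ⟨⟨c, s⟩, rfl⟩ := IsLocalization.mk'_surjective (prime φ).primeCompl b
    have hc : φ c = 0 := by
      rw [← localLift_algebraMap φ c, ← IsLocalization.mk'_spec _ c s, map_mul,
        show localLift φ (IsLocalization.mk' _ c s) = 0 from hb, zero_mul]
    dsimp only
    rw [IsLocalization.mk'_eq_mul_mk'_one]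
    refine Ideal.mul_mem_right _ _ ?_
    rw [IsScalarTower.algebraMap_eq A C (Localization.AtPrime (prime φ)), ← Ideal.map_map]
    exact Ideal.mem_map_of_mem _ (hker hc)

end localize

/-- One step: adjoining an element of `K`. -/
theorem exists_step {B : Type u} [CommRing B] [Algebra A B] {ψ : B →ₐ[A] K} (h : IsGonf B ψ)
    (a : K) :
    ∃ (C : Type u) (_ : CommRing C) (_ : Algebra A C) (i : B →ₐ[A] C) (x : C) (φ : C →ₐ[A] K),
      φ.comp i = ψ ∧ φ x = a ∧ (∀ c : C, ∃ p : B[X], p.eval₂ i.toRingHom x = c) ∧
      Module.Flat A C ∧ prime φ ≤ (maximalIdeal A).map (algebraMap A C) ∧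
      (IsNoetherianRing B → IsNoetherianRing C) := by
  have := h.isLocalRing
  have hflat := h.flat
  let ρ : ResidueField B →+* K := Ideal.Quotient.lift (maximalIdeal B) ψ.toRingHom fun b hb => by
    rw [← h.ker_eq_maximalIdeal] at hb
    exact hb
  have hρ : ∀ b, ρ (residue B b) = ψ b := fun b => rfl
  let _ : Algebra (ResidueField B) K := ρ.toAlgebra
  have hmap : ∀ p : B[X], p.eval₂ ψ.toRingHom a = aeval a (p.map (residue B)) := fun p => by
    rw [aeval_def, eval₂_map]
    rfl
  have hcoeff : ∀ p : B[X], p.map (residue B) = 0 → ∀ n,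
      p.coeff n ∈ (maximalIdeal A).map (algebraMap A B) := fun p hp n => by
    refine h.ker_le ?_
    have := congrArg (fun q => Polynomial.coeff q n) hp
    simp only [coeff_map, coeff_zero] at this
    rw [RingHom.mem_ker, ← hρ, this, map_zero]
  by_cases ha : IsIntegral (ResidueField B) a
  · -- algebraic case
    have hlifts : minpoly (ResidueField B) a ∈ Polynomial.lifts (residue B) :=
      (Polynomial.mem_lifts _).2 (Polynomial.map_surjective _ IsLocalRing.residue_surjective _)
    obtain ⟨G, hG, hGdeg, hGmonic⟩ :=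
      Polynomial.lifts_and_degree_eq_and_monic hlifts (minpoly.monic ha)
    have hGa : G.eval₂ ψ.toRingHom a = 0 := by rw [hmap, hG, minpoly.aeval]
    have hfree : Module.Free B (AdjoinRoot G) := hGmonic.free_adjoinRoot
    let i : B →ₐ[A] AdjoinRoot G := IsScalarTower.toAlgHom A B (AdjoinRoot G)
    let φ : AdjoinRoot G →ₐ[A] K :=
      { AdjoinRoot.lift ψ.toRingHom a hGa with
        commutes' := fun r => by
          show AdjoinRoot.lift ψ.toRingHom a hGa (algebraMap A (AdjoinRoot G) r) = _
          rw [IsScalarTower.algebraMap_apply A B (AdjoinRoot G), AdjoinRoot.algebraMap_eq,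
            AdjoinRoot.lift_of]
          exact ψ.commutes r }
    have hφ : ∀ p : B[X], φ (AdjoinRoot.mk G p) = p.eval₂ ψ.toRingHom a := fun p =>
      AdjoinRoot.lift_mk hGa p
    refine ⟨AdjoinRoot G, inferInstance, inferInstance, i, AdjoinRoot.root G, φ, ?_, ?_, ?_,
      Module.Flat.trans A B _, ?_, fun _ => inferInstance⟩
    · exact AlgHom.ext fun b => AdjoinRoot.lift_of hGa
    · exact AdjoinRoot.lift_root hGa
    · intro c
      obtain ⟨p, rfl⟩ := AdjoinRoot.mk_surjective c
      refine ⟨p, ?_⟩
      exact (AdjoinRoot.aeval_eq p)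
    · intro c hc
      obtain ⟨p, rfl⟩ := AdjoinRoot.mk_surjective c
      have hpr : AdjoinRoot.mk G p = AdjoinRoot.mk G (p %ₘ G) := by
        conv_lhs => rw [← modByMonic_add_div p G]
        rw [map_add, map_mul, AdjoinRoot.mk_self, zero_mul, add_zero]
      rw [hpr] at hc ⊢
      set r := p %ₘ G
      have h0 : r.map (residue B) = 0 := by
        by_contra hne
        have h1 := minpoly.degree_le_of_ne_zero (ResidueField B) a hne (by rw [← hmap, ← hφ]; exact hc)
        have : (r.map (residue B)).degree < G.degree :=
          (degree_map_le).trans_lt (degree_modByMonic_lt p hGmonic)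
        rw [hGdeg] at this
        exact absurd h1 (not_le.2 this)
      rw [← r.sum_monomial_eq, Polynomial.sum_def, map_sum]
      refine Ideal.sum_mem _ fun n _ => ?_
      rw [← C_mul_X_pow_eq_monomial, map_mul, AdjoinRoot.mk_C]
      refine Ideal.mul_mem_right _ _ ?_
      rw [IsScalarTower.algebraMap_eq A B (AdjoinRoot G), ← Ideal.map_map]
      exact Ideal.mem_map_of_mem _ (hcoeff r h0 n)
  · -- transcendental case
    let φ : B[X] →ₐ[A] K :=
      { eval₂RingHom ψ.toRingHom a with
        commutes' := fun r => by
          show eval₂ ψ.toRingHom a (algebraMap A B[X] r) = _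
          rw [Polynomial.algebraMap_apply, eval₂_C]
          exact ψ.commutes r }
    have hinj : Function.Injective (aeval a : (ResidueField B)[X] →ₐ[ResidueField B] K) :=
      transcendental_iff_injective.1 fun halg => ha halg.isIntegral
    refine ⟨B[X], inferInstance, inferInstance, IsScalarTower.toAlgHom A B B[X], X, φ, ?_, ?_, ?_,
      Module.Flat.trans A B _, ?_, fun _ => inferInstance⟩
    · exact AlgHom.ext fun b => eval₂_C _ _
    · exact eval₂_X _ _
    · exact fun c => ⟨c, eval₂_C_X⟩
    · intro p hp
      have h0 : p.map (residue B) = 0 := hinj (by rw [map_zero, ← hmap]; exact hp)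
      rw [← p.sum_monomial_eq]
      refine Ideal.sum_mem _ fun n _ => ?_
      dsimp only
      rw [← C_mul_X_pow_eq_monomial]
      refine Ideal.mul_mem_right _ _ ?_
      rw [IsScalarTower.algebraMap_eq A B B[X], ← Ideal.map_map]
      exact Ideal.mem_map_of_mem _ (hcoeff p h0 n)

end GonfLib
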