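import Groth.Agent.GonfLib.Core
import Groth.Agent.FlatCrit.Basic
import Groth.Agent.CompleteLib.Noetherian
import Mathlib.RingTheory.AdicCompletion.Completeness
import Mathlib.RingTheory.AdicCompletion.Algebra
import Mathlib.RingTheory.Flat.EquationalCriterion
import Mathlib.RingTheory.Flat.FaithfullyFlat.Algebra

/-! Gonflements: directed limits, and Noetherianity of the limit. -/

universe u

open IsLocalRing TensorProduct

namespace GonfLib

section fibre
variable {A : Type u} [CommRing A] {R : Type u} [CommRing R] [Algebra A R]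
  {N : Type u} [AddCommGroup N] [Module R N] [Module A N] [IsScalarTower A R N] [Module.Flat A N]
  {F : Type u} [AddCommGroup F] [Module R F] [Module A F] [IsScalarTower A R F]

/-- If `φ : F → N` is bijective modulo `m` and `N` is flat over `A` then it is bijective modulo
every power of `m`. -/
theorem mem_pow_smul_of_map_mem (m : Ideal A) (φ : F →ₗ[R] N)
    (hsurj : ∀ y : N, ∃ v : F, y - φ v ∈ (m • ⊤ : Submodule A N))
    (hinj : ∀ v, φ v ∈ (m • ⊤ : Submodule A N) → v ∈ (m • ⊤ : Submodule A F)) :
    ∀ (k : ℕ) (v : F), φ v ∈ (m ^ k • ⊤ : Submodule A N) → v ∈ (m ^ k • ⊤ : Submodule A F) := by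
  classical
  intro k
  induction k with
  | zero => intro v _; simp
  | succ k ih =>
    intro v hv
    have hvk := ih v (Submodule.smul_mono (Ideal.pow_le_pow_right (Nat.le_succ k)) le_rfl hv)
    obtain ⟨s₁, g₁, hg₁, hv₁⟩ : ∃ (s : Finset (A × F)) (_ : Unit), (∀ p ∈ s, p.1 ∈ m ^ k) ∧
        v = ∑ p ∈ s, p.1 • p.2 := by
      refine Submodule.smul_induction_on hvk (fun a ha w _ => ⟨{(a, w)}, (), by simpa, by simp⟩) ?_
      rintro _ _ ⟨s, _, hs, rfl⟩ ⟨s', _, hs', rfl⟩
      -- combine with disjointified sums
      let t : Finset (A × F) := (s ∪ s').image Prod.snd |>.image fun w =>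
        ((∑ p ∈ s with p.2 = w, p.1) + ∑ p ∈ s' with p.2 = w, p.1, w)
      refine ⟨t, (), fun p hp => ?_, ?_⟩
      · obtain ⟨w, -, rfl⟩ := Finset.mem_image.1 hp
        exact add_mem (Submodule.sum_mem _ fun q hq => hs q (Finset.mem_filter.1 hq).1)
          (Submodule.sum_mem _ fun q hq => hs' q (Finset.mem_filter.1 hq).1)
      · rw [Finset.sum_image (fun a _ b _ hab => congrArg Prod.snd hab)]
        simp only [add_smul, Finset.sum_add_distrib, Finset.sum_smul]
        congr 1
        · rw [← Finset.sum_fiberwise_of_maps_to (t := (s ∪ s').image Prod.snd) (g := Prod.snd)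
            (fun q hq => Finset.mem_image_of_mem _ (Finset.mem_union_left _ hq)) fun p => p.1 • p.2]
          exact Finset.sum_congr rfl fun w _ => Finset.sum_congr rfl fun q hq => by
            rw [(Finset.mem_filter.1 hq).2]
        · rw [← Finset.sum_fiberwise_of_maps_to (t := (s ∪ s').image Prod.snd) (g := Prod.snd)
            (fun q hq => Finset.mem_image_of_mem _ (Finset.mem_union_right _ hq)) fun p => p.1 • p.2]
          exact Finset.sum_congr rfl fun w _ => Finset.sum_congr rfl fun q hq => by
            rw [(Finset.mem_filter.1 hq).2]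
    obtain ⟨s₂, g₂, hg₂, hv₂⟩ : ∃ (l : ℕ) (c : Fin l → A × N), (∀ r, (c r).1 ∈ m ^ (k + 1)) ∧
        φ v = ∑ r, (c r).1 • (c r).2 := by
      refine Submodule.smul_induction_on hv
        (fun a ha y _ => ⟨1, fun _ => (a, y), fun _ => ha, by simp⟩) ?_
      rintro _ _ ⟨l, c, hc, rfl⟩ ⟨l', c', hc', rfl⟩
      refine ⟨l + l', Fin.append c c', fun r => ?_, by rw [Fin.sum_univ_add]; simp⟩
      induction r using Fin.addCases with
      | left i => simpa using hc i
      | right i => simpa using hc' i
    let co : s₁ ⊕ Fin s₂ → A := Sum.elim (fun p => p.1.1) (fun r => -(g₂ r).1)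
    let el : s₁ ⊕ Fin s₂ → N := Sum.elim (fun p => φ p.1.2) (fun r => (g₂ r).2)
    have hrel : ∑ x, co x • el x = 0 := by
      simp only [co, el, Fintype.sum_sum_type, Sum.elim_inl, Sum.elim_inr, neg_smul,
        Finset.sum_neg_distrib, ← hv₂]
      rw [Finset.sum_coe_sort s₁ (fun p => p.1 • φ p.2), hv₁, map_sum]
      simp only [LinearMap.map_smul_of_tower]
      exact add_neg_cancel _
    obtain ⟨n, e, z, hz, he⟩ := Module.Flat.isTrivialRelation_of_sum_smul_eq_zero hrel
    choose u hu using fun j => hsurj (z j)
    have hw : ∀ p : s₁, p.1.2 - ∑ j, e (Sum.inl p) j • u j ∈ (m • ⊤ : Submodule A F) := by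
      intro p
      refine hinj _ ?_
      rw [map_sub, map_sum, show φ p.1.2 = el (Sum.inl p) from rfl, hz, ← Finset.sum_sub_distrib]
      refine Submodule.sum_mem _ fun j _ => ?_
      rw [LinearMap.map_smul_of_tower, ← smul_sub]
      exact Submodule.smul_mem _ _ (hu j)
    have hcoef : ∀ j, ∑ p : s₁, p.1.1 * e (Sum.inl p) j ∈ m ^ (k + 1) := by
      intro j
      have := he j
      simp only [co, Fintype.sum_sum_type, Sum.elim_inl, Sum.elim_inr, neg_mul,
        Finset.sum_neg_distrib, ← sub_eq_add_neg, sub_eq_zero] at this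
      rw [this]
      exact Submodule.sum_mem _ fun r _ => Ideal.mul_mem_right _ _ (hg₂ r)
    rw [hv₁, ← Finset.sum_coe_sort]
    have hsplit : ∑ p : s₁, p.1.1 • p.1.2 =
        (∑ p : s₁, p.1.1 • (p.1.2 - ∑ j, e (Sum.inl p) j • u j)) +
          ∑ j, (∑ p : s₁, p.1.1 * e (Sum.inl p) j) • u j := by
      simp only [smul_sub, Finset.smul_sum, smul_smul, Finset.sum_smul, Finset.sum_sub_distrib]
      rw [Finset.sum_comm (γ := s₁)]
      abel
    rw [hsplit]
    refine add_mem (Submodule.sum_mem _ fun p _ => ?_)
      (Submodule.sum_mem _ fun j _ => Submodule.smul_mem_smul (hcoef j) trivial)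
    rw [pow_succ, Submodule.mul_smul]
    exact Submodule.smul_mem_smul (hg₁ p.1 p.2) (hw p)

end fibre

section quotient
variable {R : Type u} [CommRing R] {M N : Type u} [AddCommGroup M] [Module R M] [AddCommGroup N]
  [Module R N]

/-- A map bijective modulo `J` becomes bijective after base change to `R ⧸ J`. -/
theorem baseChange_quotient_bijective (J : Ideal R) (f : M →ₗ[R] N)
    (hsurj : ∀ y : N, ∃ v : M, y - f v ∈ (J • ⊤ : Submodule R N))
    (hinj : ∀ v, f v ∈ (J • ⊤ : Submodule R N) → v ∈ (J • ⊤ : Submodule R M)) :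
    Function.Bijective (f.baseChange (R ⧸ J)) := by
  let eM := TensorProduct.quotTensorEquivQuotSMul M J
  let eN := TensorProduct.quotTensorEquivQuotSMul N J
  have key : ∀ v, f.baseChange (R ⧸ J) (eM.symm (Submodule.Quotient.mk v)) =
      eN.symm (Submodule.Quotient.mk (f v)) := fun v => by simp [eM, eN]
  constructor
  · rw [injective_iff_map_eq_zero]
    intro z hz
    obtain ⟨z, rfl⟩ := eM.symm.surjective z
    obtain ⟨v, rfl⟩ := Submodule.Quotient.mk_surjective _ z
    rw [key] at hz
    have h0 : Submodule.Quotient.mk (p := (J • ⊤ : Submodule R N)) (f v) = 0 :=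
      eN.symm.injective (hz.trans (map_zero _).symm)
    rw [(Submodule.Quotient.mk_eq_zero _).2 (hinj v ((Submodule.Quotient.mk_eq_zero _).1 h0)),
      map_zero]
  · intro z
    obtain ⟨z, rfl⟩ := eN.symm.surjective z
    obtain ⟨y, rfl⟩ := Submodule.Quotient.mk_surjective _ z
    obtain ⟨v, hv⟩ := hsurj y
    exact ⟨eM.symm (Submodule.Quotient.mk v), by rw [key, (Submodule.Quotient.eq _).2 hv]⟩

end quotient

variable {A : Type u} [CommRing A] [IsLocalRing A] {K : Type u} [Field K] [Algebra A K]

section noeth
variable {R B : Type u} [CommRing R] [Algebra A R] [CommRing B] [Algebra A B] [Algebra R B]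
  [IsScalarTower A R B]

theorem exists_residue_basis {ψR : R →ₐ[A] K} (hk : RingHom.ker (algebraMap A K) = maximalIdeal A)
    (hR : IsGonf R ψR) :
    ∃ (σ : Type u) (φ : (σ →₀ R) →ₗ[R] B),
      (∀ y : B, ∃ v, y - φ v ∈ (maximalIdeal A • ⊤ : Submodule A B)) ∧
      ∀ v, φ v ∈ (maximalIdeal A • ⊤ : Submodule A B) →
        v ∈ (maximalIdeal A • ⊤ : Submodule A (σ →₀ R)) := by
  classical
  have := hR.isLocalRing
  let W : Submodule R B := maximalIdeal R • ⊤
  let Q := B ⧸ W
  let _ : Module (ResidueField R) Q :=
    Module.IsTorsionBySet.module (R := R) (M := Q) (I := maximalIdeal R) fun x r => by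
      obtain ⟨y, rfl⟩ := Submodule.Quotient.mk_surjective _ x
      rw [← Submodule.Quotient.mk_smul, Submodule.Quotient.mk_eq_zero]
      exact Submodule.smul_mem_smul r.2 trivial
  have : IsScalarTower R (ResidueField R) Q :=
    IsScalarTower.of_algebraMap_smul fun r x => rfl
  let b := Module.Free.chooseBasis (ResidueField R) Q
  choose y hy using fun i => Submodule.Quotient.mk_surjective W (b i)
  have hWA : (W.restrictScalars A) = (maximalIdeal A • ⊤ : Submodule A B) := by
    show ((maximalIdeal R • ⊤ : Submodule R B)).restrictScalars A = _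
    rw [← hR.map_eq_maximalIdeal hk]
    exact (Ideal.smul_restrictScalars (maximalIdeal A) (⊤ : Submodule R B)).trans (by simp)
  refine ⟨Module.Free.ChooseBasisIndex (ResidueField R) Q, Finsupp.linearCombination R y,
    fun z => ?_, fun v hv => ?_⟩
  · let c := b.repr (Submodule.Quotient.mk z)
    choose r hr using fun i => IsLocalRing.residue_surjective (R := R) (c i)
    refine ⟨c.support.sum fun i => Finsupp.single i (r i), ?_⟩
    rw [← hWA, Submodule.restrictScalars_mem, ← Submodule.Quotient.eq, map_sum,
      ← Submodule.mkQ_apply W, ← Submodule.mkQ_apply W, map_sum]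
    simp only [Finsupp.linearCombination_single, map_smul, Submodule.mkQ_apply, hy]
    conv_lhs => rw [← b.linearCombination_repr (Submodule.Quotient.mk z),
      Finsupp.linearCombination_apply, Finsupp.sum]
    refine Finset.sum_congr rfl fun i _ => ?_
    rw [← IsScalarTower.algebraMap_smul (ResidueField R) (r i) (b i)]
    exact congrArg (· • b i) (hr i).symm
  · rw [← hWA, Submodule.restrictScalars_mem, ← Submodule.Quotient.mk_eq_zero,
      Finsupp.linearCombination_apply, Finsupp.sum, ← Submodule.mkQ_apply, map_sum] at hv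
    simp only [map_smul, Submodule.mkQ_apply, hy] at hv
    have hmem : ∀ i, v i ∈ maximalIdeal R := by
      intro i
      by_cases hi : i ∈ v.support
      · rw [← residue_eq_zero_iff]
        refine linearIndependent_iff'.1 b.linearIndependent v.support (fun i => residue R (v i)) ?_
          i hi
        rw [← hv]
        exact Finset.sum_congr rfl fun j _ => (IsScalarTower.algebraMap_smul (ResidueField R) (v j) (b j))
      · simp [Finsupp.notMem_support_iff.1 hi]
    rw [← v.sum_single]
    refine Submodule.sum_mem _ fun i _ => ?_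
    have h1 := hmem i
    rw [← hR.map_eq_maximalIdeal hk, ← Submodule.restrictScalars_mem A,
      ← Ideal.smul_top_eq_map] at h1
    have h2 := Submodule.mem_map_of_mem
      (f := ((Finsupp.lsingle i : R →ₗ[R] _ →₀ R).restrictScalars A)) h1
    rw [Submodule.map_smul''] at h2
    exact Submodule.smul_mono le_rfl le_top h2

include A in
theorem faithfullyFlat_completion {ψR : R →ₐ[A] K} {ψ : B →ₐ[A] K}
    (hk : RingHom.ker (algebraMap A K) = maximalIdeal A) (hA : (maximalIdeal A).FG)
    (hR : IsGonf R ψR) (hB : IsGonf B ψ) [IsNoetherianRing R]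
    (M : Ideal B) (hM : M = (maximalIdeal A).map (algebraMap A B))
    [IsNoetherianRing (AdicCompletion M B)] :
    Module.FaithfullyFlat R (AdicCompletion M B) := by
  classical
  have : IsScalarTower R B (AdicCompletion M B) := IsScalarTower.of_algebraMap_eq fun r => rfl
  have := hR.isLocalRing
  have := hB.flat
  have hfg : M.FG := hM ▸ Ideal.FG.map hA _
  have hcompl : IsAdicComplete M (AdicCompletion M B) := AdicCompletion.isAdicComplete (M := B) hfg
  have hcompl' : IsAdicComplete (M.map (algebraMap B (AdicCompletion M B))) (AdicCompletion M B) :=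
    (IsAdicComplete.map_algebraMap_iff M (AdicCompletion M B)).2 hcompl
  have hmapR : (maximalIdeal R).map (algebraMap R (AdicCompletion M B)) =
      M.map (algebraMap B (AdicCompletion M B)) := by
    rw [IsScalarTower.algebraMap_eq R B (AdicCompletion M B), ← Ideal.map_map,
      ← hR.map_eq_maximalIdeal hk, Ideal.map_map _ (algebraMap R B), ← IsScalarTower.algebraMap_eq,
      ← hM]
  have hjac : (maximalIdeal R).map (algebraMap R (AdicCompletion M B)) ≤ Ideal.jacobson ⊥ := by
    rw [hmapR]
    exact IsAdicComplete.le_jacobson_bot _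
  have hflat : Module.Flat R (AdicCompletion M B) := by
    refine FlatCrit.flat_of_flat_quotient_pow (S := AdicCompletion M B) (maximalIdeal R) hjac
      fun n => ?_
    obtain ⟨σ, φ, hs, hi⟩ := exists_residue_basis (A := A) (B := B) hk hR
    let of' : B →ₗ[R] AdicCompletion M B := (AdicCompletion.of M B).restrictScalars R
    have hpow : ∀ (N : Type u) [AddCommGroup N] [Module R N] [Module A N] [IsScalarTower A R N],
        ((maximalIdeal R ^ n • ⊤ : Submodule R N)).restrictScalars A =
          (maximalIdeal A ^ n • ⊤ : Submodule A N) := fun N _ _ _ _ => by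
      rw [← hR.map_eq_maximalIdeal hk, ← Ideal.map_pow]
      exact (Ideal.smul_restrictScalars _ (⊤ : Submodule R N)).trans (by simp)
    have e1 : (maximalIdeal R ^ n • ⊤ : Submodule R (AdicCompletion M B)) =
        ((M ^ n • ⊤ : Submodule B (AdicCompletion M B))).restrictScalars R := by
      rw [Ideal.smul_top_eq_map, Ideal.map_pow, hmapR, ← Ideal.map_pow,
        Ideal.smul_top_eq_map (M ^ n)]
      rfl
    have hkerB : ∀ (y : B), of' y ∈ (maximalIdeal R ^ n • ⊤ : Submodule R (AdicCompletion M B)) ↔
        y ∈ (maximalIdeal A ^ n • ⊤ : Submodule A B) := by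
      intro y
      rw [e1, Submodule.restrictScalars_mem, AdicCompletion.pow_smul_top_eq_ker_eval hfg,
        LinearMap.mem_ker]
      show Submodule.Quotient.mk y = 0 ↔ _
      rw [Submodule.Quotient.mk_eq_zero, smul_eq_mul, Ideal.mul_top, Ideal.smul_top_eq_map,
        Submodule.restrictScalars_mem, Ideal.map_pow, ← hM]
    have hbij : Function.Bijective ((of' ∘ₗ φ).baseChange (R ⧸ maximalIdeal R ^ n)) := by
      refine baseChange_quotient_bijective _ _ (fun x => ?_) fun v hv => ?_
      · obtain ⟨y, hy⟩ := Submodule.Quotient.mk_surjective _ (x.val n)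
        have h1 : ∀ k, ∀ y : B, ∃ v, y - φ v ∈ (maximalIdeal A ^ k • ⊤ : Submodule A B) := by
          intro k
          induction k with
          | zero => exact fun y => ⟨0, by rw [pow_zero, Ideal.one_eq_top, Submodule.top_smul]; trivial⟩
          | succ k ih =>
            intro y
            obtain ⟨v, hv⟩ := hs y
            suffices ∀ d ∈ (maximalIdeal A • ⊤ : Submodule A B),
                ∃ v, d - φ v ∈ (maximalIdeal A ^ (k + 1) • ⊤ : Submodule A B) by
              obtain ⟨v', hv'⟩ := this _ hv
              exact ⟨v + v', by rw [map_add, ← sub_sub]; exact hv'⟩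
            intro d hd
            refine Submodule.smul_induction_on hd (fun a ha w _ => ?_) ?_
            · obtain ⟨v', hv'⟩ := ih w
              refine ⟨a • v', ?_⟩
              rw [LinearMap.map_smul_of_tower, ← smul_sub, pow_succ', Submodule.mul_smul]
              exact Submodule.smul_mem_smul ha hv'
            · rintro d₁ d₂ ⟨v₁, h₁⟩ ⟨v₂, h₂⟩
              exact ⟨v₁ + v₂, by rw [map_add, add_sub_add_comm]; exact add_mem h₁ h₂⟩
        obtain ⟨v, hv⟩ := h1 n y
        refine ⟨v, ?_⟩
        have h2 := (hkerB _).2 hv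
        rw [map_sub] at h2
        have h3 : x - of' y ∈ (maximalIdeal R ^ n • ⊤ : Submodule R (AdicCompletion M B)) := by
          rw [e1, Submodule.restrictScalars_mem, AdicCompletion.pow_smul_top_eq_ker_eval hfg,
            LinearMap.mem_ker, map_sub, sub_eq_zero]
          exact hy.symm
        have := add_mem h3 h2
        rwa [sub_add_sub_cancel] at this
      · have h1 := mem_pow_smul_of_map_mem (maximalIdeal A) φ hs hi n v ((hkerB _).1 hv)
        rwa [← hpow, Submodule.restrictScalars_mem] at h1
    exact Module.Flat.of_linearEquiv (LinearEquiv.ofBijective _ hbij).symm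
  refine { toFlat := hflat, submodule_ne_top := fun m hm h => ?_ }
  rw [IsLocalRing.eq_maximalIdeal hm, Ideal.smul_top_eq_map,
    ← Submodule.restrictScalars_top R (AdicCompletion M B)] at h
  have h2 := Submodule.restrictScalars_injective R _ _ h
  rw [hmapR] at h2
  have hne : Nontrivial (AdicCompletion M B) := by
    refine ⟨⟨1, 0, fun h10 => ?_⟩⟩
    have h3 := congrArg (AdicCompletion.evalₐ M 1) h10
    rw [map_one, map_zero] at h3
    have h4 : (1 : B) ∈ M ^ 1 := Ideal.Quotient.eq_zero_iff_mem.1 (by rw [map_one]; exact h3)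
    rw [pow_one, hM] at h4
    exact (hB.isLocalRing.toNontrivial.exists_pair_ne).elim fun _ _ =>
      one_ne_zero (α := K) (by rw [← map_one ψ]; exact map_le_ker hk ψ h4)
  have hle := IsAdicComplete.le_jacobson_bot (M.map (algebraMap B (AdicCompletion M B)))
  rw [h2] at hle
  obtain ⟨m', hm'⟩ := Ideal.exists_maximal (AdicCompletion M B)
  exact hm'.ne_top (top_le_iff.1 (hle.trans (sInf_le ⟨bot_le, hm'⟩)))

end noeth

end GonfLib
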