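import Groth.Agent.GonfLib.Limit

/-! Gonflements: a ring exhausted by gonflements is a gonflement, Noetherian if the base is. -/

universe u

open IsLocalRing TensorProduct

namespace GonfLib

variable {A : Type u} [CommRing A] [IsLocalRing A] {K : Type u} [Field K] [Algebra A K]
  {ι : Type*} {Bi : ι → Type u} [∀ i, CommRing (Bi i)] [∀ i, Algebra A (Bi i)]
  {ψi : ∀ i, Bi i →ₐ[A] K} {B : Type u} [CommRing B] [Algebra A B] {ψ : B →ₐ[A] K}
  {t : ∀ i, Bi i →ₐ[A] B}

theorem isGonf_of_exhausted (hgi : ∀ i, IsGonf (Bi i) (ψi i)) (hψ : ∀ i, ψ.comp (t i) = ψi i)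
    (hlift : ∀ s : Finset B, ∃ i, ∀ b ∈ s, b ∈ Set.range (t i))
    (hkill : ∀ i x, t i x = 0 → ∃ (j : ι) (v : Bi i →ₐ[A] Bi j), (t j).comp v = t i ∧ v x = 0) :
    IsGonf B ψ where
  flat := by
    classical
    rw [Module.Flat.iff_forall_isTrivialRelation]
    intro l f x hfx
    obtain ⟨i, hi⟩ := hlift (Finset.univ.image x)
    choose y hy using fun r => hi (x r) (Finset.mem_image_of_mem _ (Finset.mem_univ r))
    obtain ⟨j, v, hv, hv0⟩ := hkill i (∑ r, f r • y r) (by simp [map_sum, hy, hfx])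
    have := (hgi j).flat
    obtain ⟨k, a, z, hz, ha⟩ := Module.Flat.isTrivialRelation_of_sum_smul_eq_zero
      (show ∑ r, f r • v (y r) = 0 by rw [← hv0, map_sum]; simp)
    refine ⟨k, a, fun c => t j (z c), fun r => ?_, ha⟩
    rw [← hy r, ← hv, AlgHom.comp_apply, show v (y r) = _ from hz r, map_sum]
    simp
  isUnit b hb := by
    classical
    obtain ⟨i, hi⟩ := hlift {b}
    obtain ⟨x, rfl⟩ := hi b (Finset.mem_singleton_self b)
    exact ((hgi i).isUnit x (by rwa [← hψ i])).map (t i)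
  ker_le b hb := by
    classical
    obtain ⟨i, hi⟩ := hlift {b}
    obtain ⟨x, rfl⟩ := hi b (Finset.mem_singleton_self b)
    have h1 := (hgi i).ker_le (show ψi i x = 0 by rw [← hψ i]; exact hb)
    have h2 := Ideal.mem_map_of_mem (t i).toRingHom h1
    rwa [Ideal.map_map, show (t i).toRingHom.comp (algebraMap A (Bi i)) = algebraMap A B from
      RingHom.ext (t i).commutes] at h2

theorem isNoetherianRing_of_exhausted (hk : RingHom.ker (algebraMap A K) = maximalIdeal A)
    (hA : (maximalIdeal A).FG) (hgi : ∀ i, IsGonf (Bi i) (ψi i)) (hB : IsGonf B ψ)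
    (hN : ∀ i, IsNoetherianRing (Bi i))
    (hlift : ∀ s : Finset B, ∃ i, ∀ b ∈ s, b ∈ Set.range (t i)) :
    IsNoetherianRing B := by
  classical
  have := hB.isLocalRing
  let M : Ideal B := (maximalIdeal A).map (algebraMap A B)
  have hMmax : M.IsMaximal := by
    show ((maximalIdeal A).map (algebraMap A B)).IsMaximal
    rw [hB.map_eq_maximalIdeal hk]
    exact maximalIdeal.isMaximal B
  have hfg : M.FG := Ideal.FG.map hA _
  let Bh := AdicCompletion M B
  have hcompl : IsAdicComplete M Bh := AdicCompletion.isAdicComplete (M := B) hfg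
  have hcompl' : IsAdicComplete (M.map (algebraMap B Bh)) Bh :=
    (IsAdicComplete.map_algebraMap_iff M Bh).2 hcompl
  have hker : RingHom.ker (AdicCompletion.evalOneₐ M).toRingHom = M.map (algebraMap B Bh) :=
    AdicCompletion.ker_evalOneₐ_eq_map M hfg
  let _ : Field (B ⧸ M) := Ideal.Quotient.field M
  have : IsNoetherianRing (Bh ⧸ M.map (algebraMap B Bh)) :=
    isNoetherianRing_of_ringEquiv (B ⧸ M)
      ((Ideal.quotEquivOfEq hker.symm).trans
        (RingHom.quotientKerEquivOfSurjective (AdicCompletion.evalOneₐ_surjective M))).symm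
  have : IsNoetherianRing Bh :=
    CompleteLib.isNoetherianRing_of_isAdicComplete (M.map (algebraMap B Bh)) (Ideal.FG.map hfg _)
  refine ⟨fun a => ?_⟩
  obtain ⟨a0, ha0, hspan⟩ := (Submodule.fg_span_iff_fg_span_finset_subset (R := Bh)
    (algebraMap B Bh '' (a : Set B))).1 (IsNoetherian.noetherian _)
  choose g hg hg' using fun z : {z // z ∈ a0} => ha0 z.2
  refine ⟨Finset.univ.image g, le_antisymm (Submodule.span_le.2 ?_) fun b hb => ?_⟩
  · intro z hz
    simp only [Finset.coe_image, Set.mem_image] at hz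
    obtain ⟨w, -, rfl⟩ := hz
    exact hg w
  obtain ⟨i, hi⟩ := hlift (insert b (Finset.univ.image g))
  obtain ⟨x, rfl⟩ := hi b (Finset.mem_insert_self _ _)
  choose y hy using fun w => hi (g w)
    (Finset.mem_insert_of_mem (Finset.mem_image_of_mem _ (Finset.mem_univ w)))
  let _ : Algebra (Bi i) B := (t i).toRingHom.toAlgebra
  have : IsScalarTower A (Bi i) B := IsScalarTower.of_algebraMap_eq fun r => ((t i).commutes r).symm
  have := hN i
  have := faithfullyFlat_completion (R := Bi i) hk hA (hgi i) hB M rfl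
  have hx : x ∈ Ideal.span (Set.range y) := by
    rw [← Ideal.comap_map_eq_self_of_faithfullyFlat (B := Bh) (Ideal.span (Set.range y)),
      Ideal.mem_comap, Ideal.map_span]
    have h1 : algebraMap B Bh (t i x) ∈ Submodule.span Bh (a0 : Set Bh) :=
      hspan ▸ Submodule.subset_span ⟨_, hb, rfl⟩
    have h2 : (a0 : Set Bh) ⊆ algebraMap (Bi i) Bh '' Set.range y := fun z hz =>
      ⟨y ⟨z, hz⟩, ⟨_, rfl⟩, by
        show algebraMap B Bh (t i (y ⟨z, hz⟩)) = z
        rw [hy, hg']⟩
    exact Submodule.span_mono h2 h1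
  have h3 := Ideal.mem_map_of_mem (t i).toRingHom hx
  rw [Ideal.map_span] at h3
  refine Submodule.span_mono ?_ h3
  rintro _ ⟨_, ⟨w, rfl⟩, rfl⟩
  simp only [Finset.coe_image, Set.mem_image]
  exact ⟨w, Finset.mem_univ w, (hy w).symm⟩

end GonfLib
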