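import Groth.Agent.GonfLib.Ambient
import Mathlib.Order.Zorn
import Mathlib.RingTheory.Localization.Submodule
import Mathlib.Algebra.Algebra.Subalgebra.Directed

/-! Existence of gonflements with arbitrary residue field extension. -/

universe u

open IsLocalRing MvPolynomial

namespace GonfLib

variable {A : Type u} [CommRing A] [IsLocalRing A] {K : Type u} [Field K] [Algebra A K]

variable (A) in
/-- The quotient map on a partial ring of polynomials. -/
noncomputable def quotEmb (S : Set K) (T : Set (LK A K)) : LS A S →ₐ[A] LK A K ⧸ Ideal.span T :=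
  (Ideal.Quotient.mkₐ A (Ideal.span T)).comp (emb A S)

variable (A) in
/-- The ring of a stage. -/
abbrev StageRing (S : Set K) (T : Set (LK A K)) : Type u := ↥((quotEmb A S T).range)

/-- The residue map of a stage. -/
noncomputable def stageψ (S : Set K) (T : Set (LK A K))
    (hT : Ideal.span T ≤ RingHom.ker (localLift (evK A K))) : StageRing A S T →ₐ[A] K :=
  (Ideal.Quotient.liftₐ (Ideal.span T) (localLift (evK A K)) fun _ ha => hT ha).comp
    (quotEmb A S T).range.val

variable (A K) in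
/-- A stage in the construction of a gonflement. -/
structure Stage where
  /-- the adjoined elements -/
  S : Set K
  /-- the relations -/
  T : Set (LK A K)
  T_sub : T ⊆ (emb A S).range
  T_ker : Ideal.span T ≤ RingHom.ker (localLift (evK A K))
  gonf : IsGonf (StageRing A S T) (stageψ S T T_ker)
  noeth : IsNoetherianRing A → IsNoetherianRing (StageRing A S T)

namespace Stage

instance : Preorder (Stage A K) where
  le P Q := P.S ⊆ Q.S ∧ P.T ⊆ Q.T
  le_refl P := ⟨subset_rfl, subset_rfl⟩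
  le_trans P Q R h h' := ⟨h.1.trans h'.1, h.2.trans h'.2⟩

end Stage

/-- The inclusion of stage rings. -/
noncomputable def stageMap {S S' : Set K} {T T' : Set (LK A K)} (hS : S ⊆ S') (hT : T ⊆ T') :
    StageRing A S T →ₐ[A] StageRing A S' T' :=
  ((Ideal.Quotient.factorₐ A (Ideal.span_mono hT)).comp (quotEmb A S T).range.val).codRestrict _
    fun x => by
      obtain ⟨_, ⟨w, rfl⟩⟩ := x
      obtain ⟨w', hw'⟩ := range_emb_mono A hS ⟨w, rfl⟩
      refine ⟨w', ?_⟩
      show Ideal.Quotient.mk _ (emb A S' w') =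
        Ideal.Quotient.factor (Ideal.span_mono hT) (Ideal.Quotient.mk _ (emb A S w))
      rw [Ideal.Quotient.factor_mk]
      exact congrArg _ hw'

theorem stageψ_stageMap {S S' : Set K} {T T' : Set (LK A K)} (hS : S ⊆ S') (hT : T ⊆ T')
    (hk1 : Ideal.span T ≤ RingHom.ker (localLift (evK A K)))
    (hk2 : Ideal.span T' ≤ RingHom.ker (localLift (evK A K))) :
    (stageψ S' T' hk2).comp (stageMap hS hT) = stageψ S T hk1 := by
  ext ⟨x, hx⟩
  obtain ⟨z, rfl⟩ := Ideal.Quotient.mk_surjective x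
  rfl

theorem stageMap_comp {S S' S'' : Set K} {T T' T'' : Set (LK A K)} (hS : S ⊆ S') (hT : T ⊆ T')
    (hS' : S' ⊆ S'') (hT' : T' ⊆ T'') :
    (stageMap hS' hT').comp (stageMap hS hT) = stageMap (hS.trans hS') (hT.trans hT') := by
  ext ⟨x, hx⟩
  obtain ⟨z, rfl⟩ := Ideal.Quotient.mk_surjective x
  rfl

theorem exists_range_emb_iUnion {ι : Type*} [Nonempty ι] (S : ι → Set K)
    (hS : Directed (· ⊆ ·) S) (z : LK A K) (hz : z ∈ (emb A (⋃ i, S i)).range) :
    ∃ i, z ∈ (emb A (S i)).range := by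
  have hdir : Directed (· ≤ ·) (fun i => (emb A (S i)).range) := fun i j => by
    obtain ⟨k, h1, h2⟩ := hS i j
    exact ⟨k, range_emb_mono A h1, range_emb_mono A h2⟩
  have hU : ∀ y, y ∈ (⨆ i, (emb A (S i)).range : Subalgebra A (LK A K)) ↔
      ∃ i, y ∈ (emb A (S i)).range := fun y => by
    rw [← SetLike.mem_coe, Subalgebra.coe_iSup_of_directed hdir, Set.mem_iUnion]
    rfl
  obtain ⟨w, rfl⟩ := hz
  refine (hU _).1 (comp_emb_mem (AlgHom.id A (LK A K)) (localLift (evK A K)) (AlgHom.comp_id _) _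
    ?_ _ (fun s hs => ?_) w)
  · intro y hy hy0
    obtain ⟨i, hi⟩ := (hU y).1 hy
    obtain ⟨v, hv, hv1⟩ := exists_inv_mem_range (emb A (S i)) (localLift (evS A (S i)))
      (localLift (evK A K)) (localLift_emb A _) (fun _ => localLift_isUnit _) y hi hy0
    exact ⟨v, (hU v).2 ⟨i, hv⟩, hv1⟩
  · obtain ⟨i, hi⟩ := Set.mem_iUnion.1 hs
    exact (hU _).2 ⟨i, ⟨_, emb_X A (S i) ⟨s, hi⟩⟩⟩

/-- Union of a nonempty chain. -/
theorem exists_upperBound (hk : RingHom.ker (algebraMap A K) = maximalIdeal A)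
    (c : Set (Stage A K)) (hc : IsChain (· ≤ ·) c) (P₀ : Stage A K) (hP₀ : P₀ ∈ c) :
    ∃ U : Stage A K, ∀ P ∈ c, P ≤ U := by
  classical
  let S' : Set K := ⋃ P : c, P.1.S
  let T' : Set (LK A K) := ⋃ P : c, P.1.T
  have : Nonempty c := ⟨⟨P₀, hP₀⟩⟩
  have hdir : Directed (· ≤ ·) (fun P : c => P.1) := hc.directedOn.directed_val
  have hS : ∀ P : c, P.1.S ⊆ S' := fun P => Set.subset_iUnion (fun P : c => P.1.S) P
  have hT : ∀ P : c, P.1.T ⊆ T' := fun P => Set.subset_iUnion (fun P : c => P.1.T) P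
  have hTsub : T' ⊆ (emb A S').range := Set.iUnion_subset fun P =>
    P.1.T_sub.trans (range_emb_mono A (hS P))
  have hTker : Ideal.span T' ≤ RingHom.ker (localLift (evK A K)) :=
    Ideal.span_le.2 (Set.iUnion_subset fun P => Ideal.span_le.1 P.1.T_ker)
  let t : ∀ P : c, StageRing A P.1.S P.1.T →ₐ[A] StageRing A S' T' := fun P =>
    stageMap (hS P) (hT P)
  have hlift : ∀ s : Finset (StageRing A S' T'), ∃ P : c, ∀ b ∈ s, b ∈ Set.range (t P) := by
    intro s
    have h1 : ∀ b : StageRing A S' T', ∃ P : c, ∀ Q : c, P.1 ≤ Q.1 → b ∈ Set.range (t Q) := by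
      rintro ⟨_, ⟨w, rfl⟩⟩
      obtain ⟨P, hP⟩ := exists_range_emb_iUnion (fun P : c => P.1.S) (fun P Q => by
        obtain ⟨M, h1, h2⟩ := hdir P Q
        exact ⟨M, h1.1, h2.1⟩) _ ⟨w, rfl⟩
      refine ⟨P, fun Q hQ => ?_⟩
      obtain ⟨v, hv⟩ := range_emb_mono A hQ.1 hP
      refine ⟨⟨quotEmb A Q.1.S Q.1.T v, ⟨v, rfl⟩⟩, Subtype.ext ?_⟩
      show Ideal.Quotient.factor (Ideal.span_mono (hT Q))
        (Ideal.Quotient.mk _ (emb A Q.1.S v)) = _
      rw [Ideal.Quotient.factor_mk]
      exact congrArg _ hv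
    choose P hP using h1
    obtain ⟨M, hM⟩ := hdir.finset_le (s.image P)
    exact ⟨M, fun b hb => hP b M (hM _ (Finset.mem_image_of_mem _ hb))⟩
  have hkill : ∀ (P : c) x, t P x = 0 → ∃ (Q : c) (v : StageRing A P.1.S P.1.T →ₐ[A] _),
      (t Q).comp v = t P ∧ v x = 0 := by
    rintro P ⟨_, ⟨w, rfl⟩⟩ hx
    have hx1 : emb A P.1.S w ∈ Ideal.span T' :=
      Ideal.Quotient.eq_zero_iff_mem.1 (congrArg Subtype.val hx)
    rw [show T' = ⋃ P : c, P.1.T from rfl, Ideal.span_iUnion,
      Submodule.mem_iSup_of_directed _ (fun P Q : c => by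
        obtain ⟨M, h1, h2⟩ := hdir P Q
        exact ⟨M, Ideal.span_mono h1.2, Ideal.span_mono h2.2⟩)] at hx1
    obtain ⟨P₁, hP₁⟩ := hx1
    obtain ⟨Q, hQ, hQ₁⟩ := hdir P P₁
    refine ⟨Q, stageMap hQ.1 hQ.2, stageMap_comp _ _ _ _, Subtype.ext ?_⟩
    show Ideal.Quotient.factor (Ideal.span_mono hQ.2) (Ideal.Quotient.mk _ (emb A P.1.S w)) = 0
    rw [Ideal.Quotient.factor_mk]
    exact Ideal.Quotient.eq_zero_iff_mem.2 (Ideal.span_mono hQ₁.2 hP₁)
  have hgonf : IsGonf (StageRing A S' T') (stageψ S' T' hTker) :=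
    isGonf_of_exhausted (t := t) (ψi := fun P : c => stageψ P.1.S P.1.T P.1.T_ker)
      (fun P => P.1.gonf) (fun P => stageψ_stageMap _ _ _ _) hlift hkill
  refine ⟨⟨S', T', hTsub, hTker, hgonf, fun hN => ?_⟩, fun P hP => ⟨hS ⟨P, hP⟩, hT ⟨P, hP⟩⟩⟩
  exact isNoetherianRing_of_exhausted (t := t) hk (IsNoetherian.noetherian _)
    (fun P => P.1.gonf) hgonf (fun P => P.1.noeth hN) hlift

/-- The base stage. -/
theorem nonempty_stage (hk : RingHom.ker (algebraMap A K) = maximalIdeal A) :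
    Nonempty (Stage A K) := by
  have hT : Ideal.span (∅ : Set (LK A K)) ≤ RingHom.ker (localLift (evK A K)) := by simp
  have hu : ∀ a, algebraMap A K a ≠ 0 → IsUnit a := fun a ha => by
    by_contra hu
    exact ha (by rw [← RingHom.mem_ker, hk]; exact hu)
  have hsurj : Function.Surjective (algebraMap A (StageRing A (∅ : Set K) ∅)) := by
    rintro ⟨_, ⟨w, rfl⟩⟩
    obtain ⟨a, ha⟩ := comp_emb_mem (AlgHom.id A (LK A K)) (localLift (evK A K)) (AlgHom.comp_id _)
      (Algebra.ofId A (LK A K)).range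
      (exists_inv_mem_range _ (Algebra.ofId A K) _ (AlgHom.ext fun x => AlgHom.commutes _ x) hu)
      ∅ (fun s hs => hs.elim) w
    refine ⟨a, Subtype.ext ?_⟩
    show algebraMap A (LK A K ⧸ Ideal.span (∅ : Set (LK A K))) a = Ideal.Quotient.mk _ (emb A ∅ w)
    exact congrArg (Ideal.Quotient.mk (Ideal.span (∅ : Set (LK A K)))) ha
  have hflat : Module.Flat A (LK A K) :=
    have : Module.Flat (MvPolynomial K A) (LK A K) :=
      IsLocalization.flat _ (prime (evK A K)).primeCompl
    Module.Flat.trans A (MvPolynomial K A) _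
  have : IsLocalHom (algebraMap A (LK A K)) := ⟨fun a ha => hu a (by
    rw [← AlgHom.commutes (localLift (evK A K))]; exact (ha.map (localLift (evK A K))).ne_zero)⟩
  have hff : Module.FaithfullyFlat A (LK A K) := Module.FaithfullyFlat.of_flat_of_isLocalHom
  have hinj : Function.Injective (algebraMap A (StageRing A (∅ : Set K) ∅)) := by
    intro a b hab
    have h1 : Ideal.Quotient.mk (Ideal.span (∅ : Set (LK A K))) (algebraMap A (LK A K) a) =
        Ideal.Quotient.mk _ (algebraMap A _ b) := congrArg Subtype.val hab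
    rw [Ideal.Quotient.eq, Ideal.span_empty, Ideal.mem_bot, sub_eq_zero] at h1
    exact FaithfulSMul.algebraMap_injective A (LK A K) h1
  let e : A ≃ₐ[A] StageRing A (∅ : Set K) ∅ :=
    AlgEquiv.ofBijective (Algebra.ofId A _) ⟨hinj, hsurj⟩
  have h0 : IsGonf A (Algebra.ofId A K) :=
    { flat := inferInstance
      isUnit := hu
      ker_le := fun a ha => by
        rw [Algebra.algebraMap_self, Ideal.map_id, ← hk]
        exact ha }
  refine ⟨⟨∅, ∅, Set.empty_subset _, hT, ?_, fun hN => ?_⟩⟩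
  · have h1 := h0.of_surjective_equiv e
    have h2 : (Algebra.ofId A K).comp e.symm.toAlgHom = stageψ ∅ ∅ hT := AlgHom.ext fun x => by
      obtain ⟨a, rfl⟩ := hsurj x
      rw [AlgHom.commutes, AlgHom.commutes]
    rwa [h2] at h1
  · exact isNoetherianRing_of_surjective A _ _ hsurj

/-- A stage from an embedding of a gonflement. -/
theorem exists_stage_of_range (P : Stage A K) (S' : Set K) (hS : P.S ⊆ S')
    {D E : Type u} [CommRing D] [Algebra A D] [CommRing E] [Algebra A E] (χD : D →ₐ[A] K)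
    (hD : IsGonf D χD) (hN : IsNoetherianRing A → IsNoetherianRing D)
    (χ : E →ₐ[A] K) (g : LK A K →ₐ[A] E) (hg : χ.comp g = localLift (evK A K))
    (j : D →ₐ[A] E) (hj : χ.comp j = χD) (hjinj : Function.Injective j)
    (hrange : (g.comp (emb A S')).range = j.range) (hT : ∀ z ∈ P.T, g z = 0) :
    ∃ Q : Stage A K, P ≤ Q ∧ Q.S = S' := by
  let T' : Set (LK A K) := {z | z ∈ (emb A S').range ∧ g z = 0}
  have hspanT : Ideal.span T' ≤ RingHom.ker g := Ideal.span_le.2 fun z hz => hz.2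
  have hTker : Ideal.span T' ≤ RingHom.ker (localLift (evK A K)) := fun z hz => by
    rw [RingHom.mem_ker, ← hg, AlgHom.comp_apply, show g z = 0 from hspanT hz, map_zero]
  let G : StageRing A S' T' →ₐ[A] E :=
    (Ideal.Quotient.liftₐ (Ideal.span T') g fun _ hz => hspanT hz).comp (quotEmb A S' T').range.val
  have hGψ : χ.comp G = stageψ S' T' hTker := by
    ext ⟨z, hz⟩
    obtain ⟨z, rfl⟩ := Ideal.Quotient.mk_surjective z
    exact AlgHom.congr_fun hg z
  have hGinj : Function.Injective G := by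
    rw [injective_iff_map_eq_zero]
    rintro ⟨_, ⟨w, rfl⟩⟩ hw
    refine Subtype.ext ?_
    show Ideal.Quotient.mk (Ideal.span T') (emb A S' w) = 0
    exact Ideal.Quotient.eq_zero_iff_mem.2 (Ideal.subset_span ⟨⟨w, rfl⟩, hw⟩)
  have hGr : G.range = j.range := by
    rw [← hrange]
    ext z
    constructor
    · rintro ⟨⟨_, ⟨w, rfl⟩⟩, rfl⟩
      exact ⟨w, rfl⟩
    · rintro ⟨w, rfl⟩
      exact ⟨⟨quotEmb A S' T' w, ⟨w, rfl⟩⟩, rfl⟩
  let e : StageRing A S' T' ≃ₐ[A] D :=
    (AlgEquiv.ofInjective G hGinj).trans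
      ((Subalgebra.equivOfEq _ _ hGr).trans (AlgEquiv.ofInjective j hjinj).symm)
  have he : ∀ z, j (e z) = G z := fun z =>
    congrArg Subtype.val ((AlgEquiv.ofInjective j hjinj).apply_symm_apply
      (Subalgebra.equivOfEq _ _ hGr (AlgEquiv.ofInjective G hGinj z)))
  refine ⟨⟨S', T', fun z hz => hz.1, hTker, ?_, fun hA' => ?_⟩,
    ⟨hS, fun z hz => ⟨range_emb_mono A hS (P.T_sub hz), hT z hz⟩⟩, rfl⟩
  · have h1 := hD.of_surjective_equiv e.symm
    have h2 : χD.comp e.symm.symm.toAlgHom = stageψ S' T' hTker := AlgHom.ext fun z => by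
      show χD (e z) = _
      rw [← hGψ, ← hj, AlgHom.comp_apply, AlgHom.comp_apply, he]
    rwa [h2] at h1
  · have := hN hA'
    exact isNoetherianRing_of_ringEquiv D e.symm.toRingEquiv

/-- Extending a map of a partial ring of polynomials to the ambient ring. -/
theorem exists_ambient_map {E : Type u} [CommRing E] [Algebra A E] (χ : E →ₐ[A] K)
    (hEu : ∀ e, χ e ≠ 0 → IsUnit e) (y : K → E) (hy : ∀ k, χ (y k) = k) (S : Set K)
    (β : LS A S →ₐ[A] E) (hβ : χ.comp β = localLift (evS A S)) (a : K) (ha : a ∉ S) (xq : E)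
    (hxq : χ xq = a) :
    ∃ g : LK A K →ₐ[A] E, χ.comp g = localLift (evK A K) ∧ g.comp (emb A S) = β ∧
      g (algebraMap (MvPolynomial K A) (LK A K) (X a)) = xq := by
  classical
  obtain ⟨gv, hgS, hga, hgv⟩ : ∃ gv : K → E,
      (∀ s : S, gv s = β (algebraMap (MvPolynomial S A) (LS A S) (X s))) ∧ gv a = xq ∧
        ∀ k, χ (gv k) = k := by
    refine ⟨fun k => if h : k ∈ S then β (algebraMap _ _ (X (⟨k, h⟩ : S)))
      else if k = a then xq else y k, fun s => dif_pos s.2, ?_, fun k => ?_⟩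
    · simp [ha]
    · dsimp only
      by_cases h1 : k ∈ S
      · rw [dif_pos h1, ← AlgHom.comp_apply, hβ, localLift_algebraMap]
        simp [evS]
      · rw [dif_neg h1]
        split_ifs with h2
        · rw [hxq, h2]
        · exact hy k
  have hev : χ.comp (MvPolynomial.aeval gv) = evK A K :=
    MvPolynomial.algHom_ext fun k => by simp [hgv, evK]
  refine ⟨localExtend (evK A K) (MvPolynomial.aeval gv) χ hev hEu, localExt fun c => ?_,
    localExt fun c => ?_, ?_⟩
  · rw [AlgHom.comp_apply, localExtend_algebraMap, localLift_algebraMap, ← AlgHom.comp_apply, hev]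
  · have h1 : ((localExtend (evK A K) (MvPolynomial.aeval gv) χ hev hEu).comp (emb A S)).comp
        (IsScalarTower.toAlgHom A (MvPolynomial S A) (LS A S)) =
        β.comp (IsScalarTower.toAlgHom A (MvPolynomial S A) (LS A S)) :=
      MvPolynomial.algHom_ext fun s => by
        rw [AlgHom.comp_apply, AlgHom.comp_apply, IsScalarTower.coe_toAlgHom', emb_X,
          localExtend_algebraMap, aeval_X, hgS, AlgHom.comp_apply, IsScalarTower.coe_toAlgHom']
    exact AlgHom.congr_fun h1 c
  · rw [localExtend_algebraMap, aeval_X, hga]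

/-- A stage can be enlarged so as to reach any element of the residue field. -/
theorem exists_stage_step (P : Stage A K) (a : K) (ha : a ∉ P.S) :
    ∃ Q : Stage A K, P ≤ Q ∧ a ∈ Q.S := by
  classical
  obtain ⟨C, _, _, i, x, φ, hφi, hφx, hgen, hflat, hker, hN⟩ := exists_step P.gonf a
  have hD := isGonf_localization φ hflat hker
  have := hD.isLocalRing
  obtain ⟨E, _, _, χ, j, y, hEu, hj, hjinj, hy⟩ := exists_ambient (localLift φ) hD.isUnit
  let π : LS A P.S →ₐ[A] StageRing A P.S P.T := (quotEmb A P.S P.T).rangeRestrict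
  let β : StageRing A P.S P.T →ₐ[A] E :=
    j.comp ((IsScalarTower.toAlgHom A C (Localization.AtPrime (prime φ))).comp i)
  have hβ : χ.comp β = stageψ P.S P.T P.T_ker := AlgHom.ext fun z => by
    rw [AlgHom.comp_apply, AlgHom.comp_apply, ← AlgHom.comp_apply χ, hj, AlgHom.comp_apply,
      IsScalarTower.coe_toAlgHom', localLift_algebraMap, ← AlgHom.comp_apply, hφi]
  let xq : E := j (algebraMap C (Localization.AtPrime (prime φ)) x)
  have hxq : χ xq = a := by rw [← AlgHom.comp_apply, hj, localLift_algebraMap, hφx]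
  have hβπ : χ.comp (β.comp π) = localLift (evS A P.S) := by
    rw [← AlgHom.comp_assoc, hβ, ← localLift_emb A P.S]
    rfl
  obtain ⟨g, hgψ, hgπ, hga⟩ := exists_ambient_map χ hEu y hy P.S (β.comp π) hβπ a ha xq hxq
  have hsub : P.S ⊆ insert a P.S := Set.subset_insert _ _
  have hinvj := exists_inv_mem_range j (localLift φ) χ hj hD.isUnit
  have hle : (g.comp (emb A (insert a P.S))).range ≤ j.range := by
    rintro _ ⟨w, rfl⟩
    refine comp_emb_mem g χ hgψ _ hinvj _ (fun s hs => ?_) w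
    rcases Set.mem_insert_iff.1 hs with rfl | hs
    · rw [hga]
      exact ⟨_, rfl⟩
    · rw [← emb_X A P.S ⟨s, hs⟩, ← AlgHom.comp_apply, hgπ]
      exact ⟨_, rfl⟩
  have hinv' := exists_inv_mem_range (g.comp (emb A (insert a P.S)))
    (localLift (evS A (insert a P.S))) χ (by rw [← AlgHom.comp_assoc, hgψ, localLift_emb])
    fun _ => localLift_isUnit _
  have hxr : xq ∈ (g.comp (emb A (insert a P.S))).range :=
    ⟨algebraMap (MvPolynomial (insert a P.S : Set K) A) (LS A (insert a P.S))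
      (X (⟨a, Set.mem_insert _ _⟩ : (insert a P.S : Set K))), by
      show g (emb A _ _) = _
      rw [emb_X]
      exact hga⟩
  have hbr : ∀ b, β b ∈ (g.comp (emb A (insert a P.S))).range := by
    rintro ⟨_, ⟨w, rfl⟩⟩
    obtain ⟨w', hw'⟩ := range_emb_mono A hsub ⟨w, rfl⟩
    refine ⟨w', ?_⟩
    show g (emb A _ w') = _
    rw [show emb A (insert a P.S) w' = emb A P.S w from hw', ← AlgHom.comp_apply, hgπ]
    rfl
  have hge : j.range ≤ (g.comp (emb A (insert a P.S))).range := by
    rintro _ ⟨z, rfl⟩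
    refine comp_mem_of_forall φ j χ hj _ hinv' (fun c => ?_) z
    obtain ⟨p, rfl⟩ := hgen c
    induction p using Polynomial.induction_on' with
    | add p q hp hq => rw [Polynomial.eval₂_add, map_add, map_add]; exact add_mem hp hq
    | monomial n b =>
      rw [Polynomial.eval₂_monomial, map_mul, map_pow, map_mul, map_pow]
      exact mul_mem (hbr b) (pow_mem hxr n)
  have hT : ∀ z ∈ P.T, g z = 0 := fun z hz => by
    obtain ⟨w, hw⟩ := P.T_sub hz
    have h1 : π w = 0 := Subtype.ext (by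
      show Ideal.Quotient.mk (Ideal.span P.T) (emb A P.S w) = 0
      exact Ideal.Quotient.eq_zero_iff_mem.2 (by
        rw [show emb A P.S w = z from hw]; exact Ideal.subset_span hz))
    rw [← show emb A P.S w = z from hw, ← AlgHom.comp_apply, hgπ, AlgHom.comp_apply, h1, map_zero]
  have hND : IsNoetherianRing A → IsNoetherianRing (Localization.AtPrime (prime φ)) := fun hA' =>
    IsLocalization.isNoetherianRing (prime φ).primeCompl _ (hN (P.noeth hA'))
  obtain ⟨Q, hQ, hQS⟩ := exists_stage_of_range P _ hsub (localLift φ) hD hND χ g hgψ j hj hjinj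
    (le_antisymm hle hge) hT
  exact ⟨Q, hQ, hQS ▸ Set.mem_insert _ _⟩

/-- Gonflements exist. -/
theorem exists_gonf (hk : RingHom.ker (algebraMap A K) = maximalIdeal A) :
    ∃ (B : Type u) (_ : CommRing B) (_ : Algebra A B) (ψ : B →ₐ[A] K),
      IsGonf B ψ ∧ Function.Surjective ψ ∧ (IsNoetherianRing A → IsNoetherianRing B) := by
  have := nonempty_stage (K := K) hk
  obtain ⟨P, hP⟩ := zorn_le_nonempty (α := Stage A K) fun c hc hne => by
    obtain ⟨P₀, hP₀⟩ := hne
    obtain ⟨U, hU⟩ := exists_upperBound hk c hc P₀ hP₀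
    exact ⟨U, hU⟩
  refine ⟨StageRing A P.S P.T, inferInstance, inferInstance, stageψ P.S P.T P.T_ker, P.gonf,
    fun a => ?_, P.noeth⟩
  have ha : a ∈ P.S := by
    by_contra ha
    obtain ⟨Q, hQ, haQ⟩ := exists_stage_step P a ha
    exact ha ((hP hQ).1 haQ)
  refine ⟨⟨quotEmb A P.S P.T (algebraMap (MvPolynomial P.S A) (LS A P.S) (X ⟨a, ha⟩)), ⟨_, rfl⟩⟩,
    ?_⟩
  show localLift (evK A K) (emb A P.S _) = a
  rw [emb_X, localLift_algebraMap]
  simp [evK]

end GonfLib
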